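import Cfsg.Agent.H649.RIM.Sp6
import Cfsg.Agent.H240.RIM.LThreeTwo

/-!
# S4816, `F_4(2)`, `p = 3`, piece (A2) (helper649)
-/

set_option autoImplicit false

open scoped ComplexConjugate
open Matrix Cfsg

namespace Cfsg.Agent.H649.RIM

/-- **(A2)**: `Sp_6(2)` has an irreducible character whose degree has `3`-part `3 ^ 4`. -/
theorem exists_405 : ∃ θ : ↥(Matrix.symplecticGroup (Fin 3) (ZMod 2)) → ℂ, IsIrrCharacter _ θ ∧
    (charDegree θ).factorization 3 = 4 := by
  obtain ⟨ψ, h1, h2, h3, h4⟩ := Cfsg.Agent.H240.RIM.exists_three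
  refine exists_405_of ⟨ψ, h1, h2, h3, fun τ hτ => ?_⟩
  have e : τ = Cfsg.Agent.H477.HC.invT 3 := by
    funext A
    apply Units.ext
    rw [hτ]
    rfl
  rw [e]
  exact h4

end Cfsg.Agent.H649.RIM
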