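import Cfsg.Agent.H298.EP.Siegel

/-!
# S4816, `F_4(2)`, `p = 3`, piece (A2): the character of degree `405` of `Sp_6(2)` (helper649)

`P = PP 3 (ZMod 2)`, the stabiliser of a maximal isotropic subspace, maps onto `GL_3(2)` (`pr`). A character `ψ` of
degree 3 of `GL_3(2)`, inflated to `P`, induces an irreducible character of degree `3 * 135 = 405` (`exists_405_of`).
-/

set_option autoImplicit false
set_option linter.unusedSectionVars false

open scoped ComplexConjugate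
open Matrix Cfsg Cfsg.Agent.Characters.Core

namespace Cfsg.Agent.H649.RIM

open Cfsg.Agent.H65.EP.PSp Cfsg.Agent.H298.EP Cfsg.Agent.H53.HC Cfsg.Agent.OddOrderCharacters.Clifford

section gen

variable {F : Type} [Field F] [Fintype F] {m : ℕ}

/-- the action on the maximal isotropic subspace -/
noncomputable def pr : PP m F →* GeneralLinearGroup (Fin m) F := MonoidHom.toHomUnits
  { toFun := fun g => g.1.1.toBlocks₁₁
    map_one' := by
      show (1 : Matrix (Fin m ⊕ Fin m) (Fin m ⊕ Fin m) F).toBlocks₁₁ = 1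
      rw [← Matrix.fromBlocks_one, Matrix.toBlocks_fromBlocks₁₁]
    map_mul' := by
      rintro ⟨g, hg⟩ ⟨h, hh⟩
      show (g.1 * h.1).toBlocks₁₁ = g.1.toBlocks₁₁ * h.1.toBlocks₁₁
      have hh' : h.1.toBlocks₂₁ = 0 := hh
      conv_lhs => rw [← Matrix.fromBlocks_toBlocks g.1, ← Matrix.fromBlocks_toBlocks h.1, Matrix.fromBlocks_multiply,
        Matrix.toBlocks_fromBlocks₁₁, hh']
      rw [Matrix.mul_zero, add_zero] }

theorem pr_apply (g : PP m F) : ((pr g : GeneralLinearGroup (Fin m) F) : Matrix (Fin m) (Fin m) F) =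
    g.1.1.toBlocks₁₁ := rfl

/-- the Levi complement -/
noncomputable def lev : GeneralLinearGroup (Fin m) F →* Sp m F where
  toFun M := ⟨fromBlocks M.1 0 0 ((M⁻¹).1)ᵀ, by
    rw [SymplecticGroup.fromBlocks_mem_iff]
    refine ⟨by simp, by simp, ?_⟩
    rw [← Matrix.transpose_mul, ← Units.val_mul, inv_mul_cancel]
    simp⟩
  map_one' := by
    apply Subtype.ext
    show fromBlocks (1 : Matrix (Fin m) (Fin m) F) 0 0 (((1 : GeneralLinearGroup (Fin m) F)⁻¹).1)ᵀ = 1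
    rw [inv_one]
    simp
  map_mul' M N := by
    apply Subtype.ext
    show fromBlocks (M * N).1 0 0 (((M * N)⁻¹).1)ᵀ = fromBlocks M.1 0 0 ((M⁻¹).1)ᵀ * fromBlocks N.1 0 0 ((N⁻¹).1)ᵀ
    rw [Matrix.fromBlocks_multiply, _root_.mul_inv_rev, Units.val_mul, Units.val_mul, Matrix.transpose_mul]
    simp

theorem lev_coe (M : GeneralLinearGroup (Fin m) F) : (lev M).1 = fromBlocks M.1 0 0 ((M⁻¹).1)ᵀ := rfl

theorem lev_mem (M : GeneralLinearGroup (Fin m) F) : lev M ∈ PP m F := by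
  rw [mem_PP, lev_coe, Matrix.toBlocks_fromBlocks₂₁]

theorem pr_lev (M : GeneralLinearGroup (Fin m) F) : pr ⟨lev M, lev_mem M⟩ = M := by
  apply Units.ext
  show (lev M).1.toBlocks₁₁ = M.1
  rw [lev_coe, Matrix.toBlocks_fromBlocks₁₁]

theorem pr_surj : Function.Surjective (pr : PP m F →* GeneralLinearGroup (Fin m) F) :=
  fun M => ⟨⟨lev M, lev_mem M⟩, pr_lev M⟩

theorem lev_inj : Function.Injective (lev : GeneralLinearGroup (Fin m) F →* Sp m F) := by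
  intro M N h
  apply Units.ext
  have h1 : (lev M).1.toBlocks₁₁ = (lev N).1.toBlocks₁₁ := by rw [h]
  rwa [lev_coe, lev_coe, Matrix.toBlocks_fromBlocks₁₁, Matrix.toBlocks_fromBlocks₁₁] at h1

/-- the unipotent radical -/
def uu (S : Matrix (Fin m) (Fin m) F) (hS : Sᵀ = S) : Sp m F := ⟨fromBlocks 1 S 0 1, by
  rw [SymplecticGroup.fromBlocks_mem_iff]
  simp [hS]⟩

theorem uu_coe (S : Matrix (Fin m) (Fin m) F) (hS : Sᵀ = S) : (uu S hS).1 = fromBlocks 1 S 0 1 := rfl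

theorem uu_mem (S : Matrix (Fin m) (Fin m) F) (hS : Sᵀ = S) : uu S hS ∈ PP m F := by
  rw [mem_PP, uu_coe, Matrix.toBlocks_fromBlocks₂₁]

theorem pr_uu (S : Matrix (Fin m) (Fin m) F) (hS : Sᵀ = S) : pr ⟨uu S hS, uu_mem S hS⟩ = 1 := by
  apply Units.ext
  show (uu S hS).1.toBlocks₁₁ = 1
  rw [uu_coe, Matrix.toBlocks_fromBlocks₁₁]

/-- the standard element exchanging the two isotropic subspaces -/
def jj : Sp m F := ⟨fromBlocks 0 1 (-1) 0, by
  rw [SymplecticGroup.fromBlocks_mem_iff]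
  simp⟩

theorem jj_coe : (jj : Sp m F).1 = fromBlocks 0 1 (-1) 0 := rfl

theorem jj_inv : ((jj : Sp m F)⁻¹).1 = fromBlocks 0 (-1) 1 0 := by
  have h : (jj : Sp m F)⁻¹ = ⟨fromBlocks 0 (-1) 1 0, by
      rw [SymplecticGroup.fromBlocks_mem_iff]
      simp⟩ := by
    rw [inv_eq_iff_mul_eq_one]
    apply Subtype.ext
    show fromBlocks 0 1 (-1) 0 * fromBlocks 0 (-1) 1 0 = (1 : Matrix (Fin m ⊕ Fin m) (Fin m ⊕ Fin m) F)
    rw [Matrix.fromBlocks_multiply, ← Matrix.fromBlocks_one]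
    simp
  rw [h]

theorem jj_conj_lev (M : GeneralLinearGroup (Fin m) F) :
    (jj⁻¹ * lev M * jj : Sp m F).1 = fromBlocks ((M⁻¹).1)ᵀ 0 0 M.1 := by
  show ((jj : Sp m F)⁻¹).1 * (lev M).1 * (jj : Sp m F).1 = _
  rw [jj_inv, lev_coe, jj_coe, Matrix.fromBlocks_multiply, Matrix.fromBlocks_multiply]
  simp

theorem conj_uu (x : Sp m F) (S : Matrix (Fin m) (Fin m) F) (hS : Sᵀ = S) : (x * uu S hS * x⁻¹).1 =
    1 + fromBlocks (-(x.1.toBlocks₁₁ * S * x.1.toBlocks₂₁ᵀ)) (x.1.toBlocks₁₁ * S * x.1.toBlocks₁₁ᵀ)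
      (-(x.1.toBlocks₂₁ * S * x.1.toBlocks₂₁ᵀ)) (x.1.toBlocks₂₁ * S * x.1.toBlocks₁₁ᵀ) := by
  show x.1 * fromBlocks 1 S 0 1 * (x⁻¹).1 = _
  have e : (fromBlocks 1 S 0 1 : Matrix (Fin m ⊕ Fin m) (Fin m ⊕ Fin m) F) = 1 + fromBlocks 0 S 0 0 := by
    rw [← Matrix.fromBlocks_one, Matrix.fromBlocks_add]
    simp
  have e1 : x.1 * (x⁻¹).1 = 1 := congrArg Subtype.val (mul_inv_cancel x)
  rw [e, Matrix.mul_add, Matrix.mul_one, Matrix.add_mul, e1]
  congr 1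
  rw [SymplecticGroup.coe_inv]
  have e2 := Matrix.fromBlocks_toBlocks x.1
  set A := x.1.toBlocks₁₁
  set B := x.1.toBlocks₁₂
  set C := x.1.toBlocks₂₁
  set D := x.1.toBlocks₂₂
  rw [← e2, Matrix.J, Matrix.fromBlocks_transpose, Matrix.fromBlocks_neg, Matrix.fromBlocks_multiply,
    Matrix.fromBlocks_multiply, Matrix.fromBlocks_multiply, Matrix.fromBlocks_multiply]
  simp

/-- the big cell -/
theorem exists_cell {x : Sp m F} (h : IsUnit x.1.toBlocks₂₁.det) : ∃ a ∈ PP m F, ∃ b ∈ PP m F, x = a * jj * b := by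
  have hx := x.2
  rw [← Matrix.fromBlocks_toBlocks x.1, SymplecticGroup.fromBlocks_mem_iff] at hx
  set A := x.1.toBlocks₁₁ with hA
  set C := x.1.toBlocks₂₁ with hC
  have h1 : Aᵀ * C = Cᵀ * A := hx.1
  have hCt : IsUnit Cᵀ.det := by rwa [Matrix.det_transpose]
  have hS : (A * C⁻¹)ᵀ = A * C⁻¹ := by
    rw [Matrix.transpose_mul, Matrix.transpose_nonsing_inv]
    calc Cᵀ⁻¹ * Aᵀ = Cᵀ⁻¹ * Aᵀ * (C * C⁻¹) := by rw [Matrix.mul_nonsing_inv _ h, Matrix.mul_one]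
      _ = Cᵀ⁻¹ * (Aᵀ * C) * C⁻¹ := by simp only [Matrix.mul_assoc]
      _ = Cᵀ⁻¹ * Cᵀ * A * C⁻¹ := by rw [h1]; simp only [Matrix.mul_assoc]
      _ = A * C⁻¹ := by rw [Matrix.nonsing_inv_mul _ hCt, Matrix.one_mul]
  have hS' : (-(A * C⁻¹))ᵀ = -(A * C⁻¹) := by rw [Matrix.transpose_neg, hS]
  refine ⟨(uu (-(A * C⁻¹)) hS')⁻¹, inv_mem (uu_mem _ _), jj⁻¹ * uu (-(A * C⁻¹)) hS' * x, ?_, by group⟩
  rw [mem_PP]
  show (((jj : Sp m F)⁻¹).1 * (uu (-(A * C⁻¹)) hS').1 * x.1).toBlocks₂₁ = 0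
  rw [jj_inv, uu_coe, ← Matrix.fromBlocks_toBlocks x.1, Matrix.fromBlocks_multiply, Matrix.fromBlocks_multiply,
    Matrix.toBlocks_fromBlocks₂₁, ← hA, ← hC]
  simp only [Matrix.zero_mul, Matrix.one_mul, Matrix.mul_zero, add_zero, Matrix.neg_mul]
  rw [Matrix.mul_assoc, Matrix.nonsing_inv_mul _ h, Matrix.mul_one, add_neg_cancel]

theorem conj_uu_mem {x : Sp m F} {S : Matrix (Fin m) (Fin m) F} (hS : Sᵀ = S)
    (h0 : x.1.toBlocks₂₁ * S * x.1.toBlocks₂₁ᵀ = 0) : x * uu S hS * x⁻¹ ∈ PP m F := by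
  rw [mem_PP, conj_uu, ← Matrix.fromBlocks_one, Matrix.fromBlocks_add, Matrix.toBlocks_fromBlocks₂₁, h0, neg_zero,
    add_zero]

theorem conj_uu_ne {x : Sp m F} {S : Matrix (Fin m) (Fin m) F} (hS : Sᵀ = S)
    (h0 : x.1.toBlocks₂₁ * S * x.1.toBlocks₂₁ᵀ = 0) (hne : x.1.toBlocks₂₁ * S ≠ 0) :
    pr ⟨x * uu S hS * x⁻¹, conj_uu_mem hS h0⟩ ≠ 1 := by
  intro h
  have h1 : (x * uu S hS * x⁻¹).1.toBlocks₁₁ = 1 := congrArg Units.val h
  rw [conj_uu, ← Matrix.fromBlocks_one, Matrix.fromBlocks_add, Matrix.toBlocks_fromBlocks₁₁, add_eq_left,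
    neg_eq_zero] at h1
  apply hne
  have h2 : x.1 * fromBlocks (S * x.1.toBlocks₂₁ᵀ) 0 0 0 = 0 := by
    nth_rewrite 1 [← Matrix.fromBlocks_toBlocks x.1]
    rw [Matrix.fromBlocks_multiply, ← Matrix.mul_assoc, ← Matrix.mul_assoc, h0, h1]
    simp
  have e1 : (x⁻¹).1 * x.1 = 1 := congrArg Subtype.val (inv_mul_cancel x)
  have h3 : fromBlocks (S * x.1.toBlocks₂₁ᵀ) 0 0 0 = (0 : Matrix (Fin m ⊕ Fin m) (Fin m ⊕ Fin m) F) := by
    rw [← Matrix.one_mul (fromBlocks (S * x.1.toBlocks₂₁ᵀ) 0 0 0), ← e1, Matrix.mul_assoc, h2, Matrix.mul_zero]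
  have h4 : S * x.1.toBlocks₂₁ᵀ = 0 := by
    have := congrArg Matrix.toBlocks₁₁ h3
    rw [Matrix.toBlocks_fromBlocks₁₁] at this
    rw [this]
    rfl
  have h5 := congrArg Matrix.transpose h4
  rwa [Matrix.transpose_mul, Matrix.transpose_transpose, hS, Matrix.transpose_zero] at h5

theorem ker_exp [CharP F 2] (g : PP m F) (hg : pr g = 1) : g * g = 1 := by
  obtain ⟨g, hgP⟩ := g
  have h1 : g.1.toBlocks₁₁ = 1 := congrArg Units.val hg
  have h2 : g.1.toBlocks₂₁ = 0 := hgP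
  have h3 := g.2
  have h4 := Matrix.fromBlocks_toBlocks g.1
  rw [← h4, SymplecticGroup.fromBlocks_mem_iff, h1, h2] at h3
  have h5 : g.1.toBlocks₂₂ = 1 := by simpa using h3.2.2
  rw [h1, h2, h5] at h4
  apply Subtype.ext
  apply Subtype.ext
  show g.1 * g.1 = 1
  rw [← h4, Matrix.fromBlocks_multiply, ← Matrix.fromBlocks_one]
  congr 1
  · simp
  · rw [Matrix.one_mul, Matrix.mul_one]
    ext i j
    exact CharTwo.add_self_eq_zero _
  · simp
  · simp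

end gen

section two

open Cfsg.Agent.LieClassical.SympCount

theorem zmod_two (a : ZMod 2) : a = 0 ∨ a = 1 := by
  fin_cases a
  · exact Or.inl rfl
  · exact Or.inr rfl

/-- a symmetric matrix of rank two -/
def sy (k v : Fin 3 → ZMod 2) : Matrix (Fin 3) (Fin 3) (ZMod 2) := vecMulVec k v + vecMulVec v k

theorem sy_transpose (k v : Fin 3 → ZMod 2) : (sy k v)ᵀ = sy k v := by
  rw [sy, Matrix.transpose_add, Matrix.transpose_vecMulVec, Matrix.transpose_vecMulVec, add_comm]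

theorem sy_conj {C : Matrix (Fin 3) (Fin 3) (ZMod 2)} {k v : Fin 3 → ZMod 2} (hk : C *ᵥ k = 0) :
    C * sy k v * Cᵀ = 0 := by
  rw [sy, Matrix.mul_add, Matrix.add_mul, Matrix.mul_vecMulVec, Matrix.mul_vecMulVec, hk, Matrix.vecMulVec_mul,
    Matrix.vecMulVec_mul, Matrix.vecMul_transpose, Matrix.vecMul_transpose, hk]
  ext i j
  simp

theorem mul_sy_ne {C : Matrix (Fin 3) (Fin 3) (ZMod 2)} {k v : Fin 3 → ZMod 2} (hk : C *ᵥ k = 0) (hk0 : k ≠ 0)
    (hv : C *ᵥ v ≠ 0) : C * sy k v ≠ 0 := by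
  rw [sy, Matrix.mul_add, Matrix.mul_vecMulVec, Matrix.mul_vecMulVec, hk]
  intro h
  obtain ⟨i, hi⟩ := Function.ne_iff.1 hv
  obtain ⟨j, hj⟩ := Function.ne_iff.1 hk0
  have h1 := congrFun (congrFun h i) j
  rw [Matrix.add_apply, Matrix.vecMulVec_apply, Matrix.vecMulVec_apply, Pi.zero_apply, zero_mul, zero_add] at h1
  exact mul_ne_zero hi hj h1

theorem add_ne {a b : Fin 3 → ZMod 2} (h : a ≠ b) : a + b ≠ 0 := by
  intro h1
  apply h
  funext i
  have h2 := congrFun h1 i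
  exact CharTwo.add_eq_zero.1 h2

theorem exists_S {C : Matrix (Fin 3) (Fin 3) (ZMod 2)} (h0 : C ≠ 0) (hdet : C.det = 0) :
    ∃ S₁ S₂ : Matrix (Fin 3) (Fin 3) (ZMod 2), S₁ᵀ = S₁ ∧ S₂ᵀ = S₂ ∧ C * S₁ * Cᵀ = 0 ∧ C * S₂ * Cᵀ = 0 ∧
      C * S₁ ≠ 0 ∧ C * S₂ ≠ 0 ∧ C * (S₁ + S₂) ≠ 0 := by
  obtain ⟨k, hk0, hk⟩ := Matrix.exists_mulVec_eq_zero_iff.2 hdet
  obtain ⟨v, hv⟩ : ∃ v, C *ᵥ v ≠ 0 := by
    by_contra hcon
    push Not at hcon
    apply h0
    rw [← Matrix.mulVec_injective.eq_iff]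
    funext w
    rw [hcon, Matrix.zero_mulVec]
  by_cases hc : ∃ k', k' ≠ 0 ∧ k' ≠ k ∧ C *ᵥ k' = 0
  · obtain ⟨k', hk0', hne, hk'⟩ := hc
    refine ⟨sy k v, sy k' v, sy_transpose _ _, sy_transpose _ _, sy_conj hk, sy_conj hk', mul_sy_ne hk hk0 hv,
      mul_sy_ne hk' hk0' hv, ?_⟩
    have e : sy k v + sy k' v = sy (k + k') v := by
      ext i j
      simp only [sy, Matrix.add_apply, Matrix.vecMulVec_apply, Pi.add_apply]
      ring
    rw [e]
    exact mul_sy_ne (by rw [Matrix.mulVec_add, hk, hk', add_zero]) (add_ne hne.symm) hv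
  · push Not at hc
    obtain ⟨w, hw⟩ : ∃ w : Fin 3 → ZMod 2, w ∉ ({0, k, v, v + k} : Finset (Fin 3 → ZMod 2)) := by
      by_contra hcon
      push Not at hcon
      have h1 : (Finset.univ : Finset (Fin 3 → ZMod 2)) ⊆ {0, k, v, v + k} := fun w _ => hcon w
      have h2 := Finset.card_le_card h1
      have h3 : (Finset.univ : Finset (Fin 3 → ZMod 2)).card = 8 := by
        rw [Finset.card_univ, Fintype.card_fun, ZMod.card, Fintype.card_fin]
        norm_num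
      have h4 : ({0, k, v, v + k} : Finset (Fin 3 → ZMod 2)).card ≤ 4 := Finset.card_le_four
      omega
    simp only [Finset.mem_insert, Finset.mem_singleton, not_or] at hw
    obtain ⟨hw0, hwk, hwv, hwvk⟩ := hw
    have h1 : C *ᵥ w ≠ 0 := hc w hw0 hwk
    have h2 : C *ᵥ (v + w) ≠ 0 := by
      refine hc _ (add_ne (Ne.symm hwv)) fun h3 => hwvk ?_
      rw [← h3]
      funext i
      show w i = v i + (v i + w i)
      rw [← add_assoc, CharTwo.add_self_eq_zero, zero_add]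
    refine ⟨sy k v, sy k w, sy_transpose _ _, sy_transpose _ _, sy_conj hk, sy_conj hk, mul_sy_ne hk hk0 hv,
      mul_sy_ne hk hk0 h1, ?_⟩
    have e : sy k v + sy k w = sy k (v + w) := by
      ext i j
      simp only [sy, Matrix.add_apply, Matrix.vecMulVec_apply, Pi.add_apply]
      ring
    rw [e]
    exact mul_sy_ne hk hk0 h2

/-- an elementary abelian group of order four in the unipotent radical -/
def four (S₁ S₂ : Matrix (Fin 3) (Fin 3) (ZMod 2)) (h₁ : S₁ᵀ = S₁) (h₂ : S₂ᵀ = S₂) :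
    Multiplicative (ZMod 2 × ZMod 2) →* Sp 3 (ZMod 2) where
  toFun s := uu (s.toAdd.1 • S₁ + s.toAdd.2 • S₂) (by
    rw [Matrix.transpose_add, Matrix.transpose_smul, Matrix.transpose_smul, h₁, h₂])
  map_one' := by
    apply Subtype.ext
    show fromBlocks 1 ((0 : ZMod 2) • S₁ + (0 : ZMod 2) • S₂) 0 1 = 1
    rw [zero_smul, zero_smul, add_zero, Matrix.fromBlocks_one]
  map_mul' s t := by
    apply Subtype.ext
    show fromBlocks 1 ((s.toAdd.1 + t.toAdd.1) • S₁ + (s.toAdd.2 + t.toAdd.2) • S₂) 0 1 =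
      fromBlocks 1 (s.toAdd.1 • S₁ + s.toAdd.2 • S₂) 0 1 * fromBlocks 1 (t.toAdd.1 • S₁ + t.toAdd.2 • S₂) 0 1
    rw [Matrix.fromBlocks_multiply]
    simp only [Matrix.mul_one, Matrix.one_mul, Matrix.mul_zero, Matrix.zero_mul, add_zero, zero_add, add_smul]
    congr 1
    abel

theorem four_apply (S₁ S₂ : Matrix (Fin 3) (Fin 3) (ZMod 2)) (h₁ : S₁ᵀ = S₁) (h₂ : S₂ᵀ = S₂)
    (s : Multiplicative (ZMod 2 × ZMod 2)) : four S₁ S₂ h₁ h₂ s = uu (s.toAdd.1 • S₁ + s.toAdd.2 • S₂) (by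
    rw [Matrix.transpose_add, Matrix.transpose_smul, Matrix.transpose_smul, h₁, h₂]) := rfl

theorem sum_four (s : Multiplicative (ZMod 2 × ZMod 2) → ℂ) (h1 : s 1 = 9) (h : ∀ t, t ≠ 1 → s t = -3) :
    ∑ t, s t = 0 := by
  have e : ∀ t, s t = (if t = 1 then 12 else 0) + (-3) := by
    intro t
    split_ifs with ht
    · rw [ht, h1]; norm_num
    · rw [h t ht]; norm_num
  rw [Finset.sum_congr rfl fun t _ => e t, Finset.sum_add_distrib, Finset.sum_ite_eq' Finset.univ 1,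
    if_pos (Finset.mem_univ _), Finset.sum_const, Finset.card_univ]
  have hc : Fintype.card (Multiplicative (ZMod 2 × ZMod 2)) = 4 := by
    rw [Fintype.card_multiplicative, Fintype.card_prod, ZMod.card]
  rw [hc]
  norm_num

/-- The irreducibility of the induced character. -/
theorem isIrr {ψ : GeneralLinearGroup (Fin 3) (ZMod 2) → ℂ} (h1 : IsIrrCharacter _ ψ) (h2 : ψ 1 = 3)
    (h3 : ∀ t, t * t = 1 → t ≠ 1 → ψ t = -1)
    (h4 : ∀ τ : GeneralLinearGroup (Fin 3) (ZMod 2) → GeneralLinearGroup (Fin 3) (ZMod 2),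
      (∀ A, (τ A).1 = ((A⁻¹).1)ᵀ) → ∑ A, ψ A * conj (ψ (τ A)) = 0) [Fintype (Sp 3 (ZMod 2))] :
    IsIrrCharacter (Sp 3 (ZMod 2)) (indFun (PP 3 (ZMod 2)) fun g => ψ (pr g)) := by
  refine isIrr_indFun_rep _ (Cfsg.Agent.Blocks.CliffordCentral.isIrrCharacter_comp h1 pr pr_surj) fun x hx => ?_
  by_cases hdet : x.1.toBlocks₂₁.det = 0
  · have hC : x.1.toBlocks₂₁ ≠ 0 := hx
    obtain ⟨S₁, S₂, hS₁, hS₂, e1, e2, n1, n2, n3⟩ := exists_S hC hdet
    -- the four symmetric matrices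
    have hz : ∀ a b : ZMod 2, x.1.toBlocks₂₁ * (a • S₁ + b • S₂) * x.1.toBlocks₂₁ᵀ = 0 := by
      intro a b
      rw [Matrix.mul_add, Matrix.add_mul, Matrix.mul_smul, Matrix.mul_smul, Matrix.smul_mul, Matrix.smul_mul, e1, e2,
        smul_zero, smul_zero, add_zero]
    have hnz : ∀ a b : ZMod 2, (a, b) ≠ 0 → x.1.toBlocks₂₁ * (a • S₁ + b • S₂) ≠ 0 := by
      intro a b hab
      rcases Cfsg.Agent.H649.RIM.zmod_two a with rfl | rfl <;> rcases Cfsg.Agent.H649.RIM.zmod_two b with rfl | rfl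
      · exact absurd rfl hab
      · rwa [zero_smul, one_smul, zero_add]
      · rwa [zero_smul, one_smul, add_zero]
      · rwa [one_smul, one_smul]
    have hsy : ∀ s : Multiplicative (ZMod 2 × ZMod 2), (s.toAdd.1 • S₁ + s.toAdd.2 • S₂)ᵀ =
        s.toAdd.1 • S₁ + s.toAdd.2 • S₂ := by
      intro s
      rw [Matrix.transpose_add, Matrix.transpose_smul, Matrix.transpose_smul, hS₁, hS₂]
    let f : Multiplicative (ZMod 2 × ZMod 2) →* Sp 3 (ZMod 2) :=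
      (MulAut.conj x).toMonoidHom.comp (four S₁ S₂ hS₁ hS₂)
    have hf : ∀ s, f s = x * uu (s.toAdd.1 • S₁ + s.toAdd.2 • S₂) (hsy s) * x⁻¹ := fun s => rfl
    have hfP : ∀ s, f s ∈ PP 3 (ZMod 2) := fun s => conj_uu_mem (hsy s) (hz _ _)
    have hfne : ∀ s, s ≠ 1 → pr ⟨f s, hfP s⟩ ≠ 1 := fun s hs => conj_uu_ne (hsy s) (hz _ _) (hnz _ _ fun h => hs h)
    have hfx : ∀ s, x⁻¹ * f s * x = uu (s.toAdd.1 • S₁ + s.toAdd.2 • S₂) (hsy s) := by
      intro s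
      rw [hf]
      group
    have hinj : Function.Injective f := by
      rw [injective_iff_map_eq_one]
      intro s hs
      by_contra hne
      apply hfne s hne
      have e : (⟨f s, hfP s⟩ : PP 3 (ZMod 2)) = 1 := Subtype.ext hs
      rw [e, map_one]
    have hL : f.range ≤ PP 3 (ZMod 2) := by
      rintro _ ⟨s, rfl⟩
      exact hfP s
    have hL' : ∀ l ∈ f.range, x⁻¹ * l * x ∈ PP 3 (ZMod 2) := by
      rintro _ ⟨s, rfl⟩
      rw [hfx]
      exact uu_mem _ _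
    refine ⟨1, one_mem _, 1, one_mem _, x, by group, f.range, hL, hL', ?_⟩
    intro _
    rw [← Equiv.sum_comp (MonoidHom.ofInjective hinj).toEquiv]
    have e3 : ∀ s, ψ (pr ⟨x⁻¹ * f s * x, hL' _ ⟨s, rfl⟩⟩) = 3 := by
      intro s
      have e : (⟨x⁻¹ * f s * x, hL' _ ⟨s, rfl⟩⟩ : PP 3 (ZMod 2)) =
        ⟨uu (s.toAdd.1 • S₁ + s.toAdd.2 • S₂) (hsy s), uu_mem _ _⟩ := Subtype.ext (hfx s)
      rw [e, pr_uu, h2]
    refine sum_four _ ?_ fun s hs => ?_
    · show ψ (pr ⟨f 1, hfP 1⟩) * conj (ψ (pr ⟨x⁻¹ * f 1 * x, hL' _ ⟨1, rfl⟩⟩)) = 9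
      rw [e3]
      have e : (⟨f 1, hfP 1⟩ : PP 3 (ZMod 2)) = 1 := Subtype.ext (map_one f)
      rw [e, map_one, h2, map_ofNat]
      norm_num
    · show ψ (pr ⟨f s, hfP s⟩) * conj (ψ (pr ⟨x⁻¹ * f s * x, hL' _ ⟨s, rfl⟩⟩)) = -3
      rw [e3, h3 _ ?_ (hfne s hs), map_ofNat]
      · norm_num
      · rw [← map_mul]
        have e : (⟨f s, hfP s⟩ * ⟨f s, hfP s⟩ : PP 3 (ZMod 2)) = 1 := by
          apply Subtype.ext
          show f s * f s = 1
          have e4 : s * s = 1 := by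
            apply Multiplicative.toAdd.injective
            show s.toAdd + s.toAdd = 0
            exact Prod.ext (CharTwo.add_self_eq_zero _) (CharTwo.add_self_eq_zero _)
          rw [← map_mul, e4, map_one]
        rw [e, map_one]
  · obtain ⟨a, ha, b, hb, hab⟩ := exists_cell (x := x) (isUnit_iff_ne_zero.2 hdet)
    refine ⟨a, ha, b, hb, jj, hab, lev.range, ?_, ?_, ?_⟩
    · rintro _ ⟨M, rfl⟩
      exact lev_mem M
    · rintro _ ⟨M, rfl⟩
      rw [mem_PP, jj_conj_lev, Matrix.toBlocks_fromBlocks₂₁]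
    · intro _
      rw [← Equiv.sum_comp (MonoidHom.ofInjective lev_inj).toEquiv]
      have hJ : ∀ A : GeneralLinearGroup (Fin 3) (ZMod 2), jj⁻¹ * lev A * jj ∈ PP 3 (ZMod 2) := by
        intro A
        rw [mem_PP, jj_conj_lev, Matrix.toBlocks_fromBlocks₂₁]
      refine (Finset.sum_congr rfl fun A _ => ?_).trans (h4 (fun A => pr ⟨_, hJ A⟩) fun A => ?_)
      · show ψ (pr ⟨lev A, lev_mem A⟩) * conj (ψ (pr ⟨_, hJ A⟩)) = _
        rw [pr_lev]
      · show (jj⁻¹ * lev A * jj : Sp 3 (ZMod 2)).1.toBlocks₁₁ = _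
        rw [jj_conj_lev, Matrix.toBlocks_fromBlocks₁₁]

theorem card_sp : Nat.card (Sp 3 (ZMod 2)) = 3 ^ 4 * 17920 := by
  rw [card_symplecticGroup, ZMod.card]
  decide

theorem card_gl : Nat.card (GeneralLinearGroup (Fin 3) (ZMod 2)) = 3 * 56 := by
  rw [Matrix.card_GL_field, ZMod.card]
  decide

theorem factor_aux {n a : ℕ} (h : ¬ 3 ∣ a) : (3 ^ n * a).factorization 3 = n := by
  have ha : a ≠ 0 := by
    rintro rfl
    exact h (dvd_zero _)
  rw [Nat.factorization_mul (by positivity) ha, Nat.Prime.factorization_pow Nat.prime_three, Finsupp.add_apply,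
    Finsupp.single_eq_same, Nat.factorization_eq_zero_of_not_dvd h, add_zero]

theorem index_factor : ((PP 3 (ZMod 2)).index).factorization 3 = 3 := by
  have h1 := (PP 3 (ZMod 2)).card_mul_index
  have h2 := (pr : PP 3 (ZMod 2) →* GeneralLinearGroup (Fin 3) (ZMod 2)).ker.card_mul_index
  rw [Subgroup.index_ker, MonoidHom.range_eq_top.2 pr_surj, Nat.card_congr Subgroup.topEquiv.toEquiv, card_gl] at h2
  have h3 : IsPGroup 2 (pr : PP 3 (ZMod 2) →* GeneralLinearGroup (Fin 3) (ZMod 2)).ker := by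
    rintro ⟨g, hg⟩
    refine ⟨1, Subtype.ext ?_⟩
    show g ^ 2 ^ 1 = 1
    rw [pow_one, pow_two]
    exact ker_exp g hg
  have : Fact (Nat.Prime 2) := ⟨Nat.prime_two⟩
  obtain ⟨k, hk⟩ := IsPGroup.iff_card.1 h3
  rw [hk] at h2
  rw [← h2, card_sp] at h1
  have hidx : (PP 3 (ZMod 2)).index ≠ 0 := Subgroup.index_ne_zero_of_finite
  have h4 : ((2 ^ k * (3 * 56)) * (PP 3 (ZMod 2)).index).factorization 3 = (3 ^ 4 * 17920).factorization 3 := by
    rw [h1]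
  rw [factor_aux (by norm_num), Nat.factorization_mul (by positivity) hidx, Finsupp.add_apply] at h4
  have e : 2 ^ k * (3 * 56) = 3 ^ 1 * (2 ^ k * 56) := by ring
  rw [e, factor_aux] at h4
  · omega
  · intro h
    rcases (Nat.Prime.dvd_mul Nat.prime_three).1 h with h | h
    · exact absurd (Nat.Prime.dvd_of_dvd_pow Nat.prime_three h) (by norm_num)
    · exact absurd h (by norm_num)

/-- **(A2)**, modulo the character of degree three of `GL_3(2)`. -/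
theorem exists_405_of (h : ∃ ψ : GeneralLinearGroup (Fin 3) (ZMod 2) → ℂ, IsIrrCharacter _ ψ ∧ ψ 1 = 3 ∧
      (∀ t, t * t = 1 → t ≠ 1 → ψ t = -1) ∧
      ∀ τ : GeneralLinearGroup (Fin 3) (ZMod 2) → GeneralLinearGroup (Fin 3) (ZMod 2),
        (∀ A, (τ A).1 = ((A⁻¹).1)ᵀ) → ∑ A, ψ A * conj (ψ (τ A)) = 0) :
    ∃ θ : ↥(Matrix.symplecticGroup (Fin 3) (ZMod 2)) → ℂ, IsIrrCharacter _ θ ∧
      (charDegree θ).factorization 3 = 4 := by
  obtain ⟨ψ, h1, h2, h3, h4⟩ := h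
  have := Fintype.ofFinite (Sp 3 (ZMod 2))
  refine ⟨_, isIrr h1 h2 h3 h4, ?_⟩
  have h5 : charDegree (indFun (PP 3 (ZMod 2)) fun g => ψ (pr g)) = (PP 3 (ZMod 2)).index * 3 := by
    apply Cfsg.Agent.Blocks.Basic.charDegree_of_eq
    rw [indFun_one, map_one, h2]
    push_cast
    rfl
  rw [h5, Nat.factorization_mul Subgroup.index_ne_zero_of_finite (by norm_num), Finsupp.add_apply, index_factor,
    Nat.Prime.factorization_self Nat.prime_three]

end two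

end Cfsg.Agent.H649.RIM
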